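import Mathlib.RingTheory.PowerSeries.Order
import Mathlib.RingTheory.PowerSeries.Inverse
import Mathlib.RingTheory.PowerSeries.NoZeroDivisors
import Mathlib.Algebra.CharP.Basic
import Mathlib.FieldTheory.Finite.Basic
import Mathlib.Algebra.CharP.Lemmas
import Mathlib.Tactic

/-!
Lower ramification break of an automorphism of order `p` of `k⟦X⟧`.
-/

universe u

open PowerSeries Finset

namespace Groth.Agent.RamBreak

variable {k : Type u} [Field k]

/-- `f` has exact order `q`. -/
def Ord (f : PowerSeries k) (q : ℕ) : Prop := ∃ u, constantCoeff u ≠ 0 ∧ f = X ^ q * u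

lemma Ord.order {f : PowerSeries k} {q : ℕ} (h : Ord f q) : f.order = (q : ℕ∞) := by
  obtain ⟨u, hu, rfl⟩ := h
  rw [order_mul, order_X_pow, order_zero_of_unit (isUnit_iff_constantCoeff.2 (Ne.isUnit hu)), add_zero]

lemma Ord.unique {f : PowerSeries k} {q r : ℕ} (h : Ord f q) (h' : Ord f r) : q = r := by
  have := h.order.symm.trans h'.order
  exact_mod_cast this

lemma ord_of_order {f : PowerSeries k} {q : ℕ} (h : f.order = (q : ℕ∞)) : Ord f q := by
  have hd : X ^ q ∣ f := by
    have := X_pow_order_dvd (φ := f)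
    rwa [h, ENat.toNat_coe] at this
  obtain ⟨u, rfl⟩ := hd
  refine ⟨u, fun h0 => ?_, rfl⟩
  obtain ⟨v, rfl⟩ : X ∣ u := X_dvd_iff.2 h0
  have hle : ((q + 1 : ℕ) : ℕ∞) ≤ (X ^ q * (X * v) : PowerSeries k).order := by
    rw [← mul_assoc, ← pow_succ, order_mul, order_X_pow]
    exact le_self_add
  rw [h] at hle
  have : q + 1 ≤ q := by exact_mod_cast hle
  omega

lemma Ord.mul {f g : PowerSeries k} {q r : ℕ} (h : Ord f q) (h' : Ord g r) : Ord (f * g) (q + r) := by
  obtain ⟨u, hu, rfl⟩ := h
  obtain ⟨v, hv, rfl⟩ := h'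
  exact ⟨u * v, by rw [map_mul]; exact mul_ne_zero hu hv, by ring⟩

lemma Ord.pow {f : PowerSeries k} {q : ℕ} (h : Ord f q) (n : ℕ) : Ord (f ^ n) (n * q) := by
  induction n with
  | zero => exact ⟨1, by simp, by simp⟩
  | succ n ih => rw [pow_succ, Nat.succ_mul]; exact ih.mul h

lemma Ord.ne_zero {f : PowerSeries k} {q : ℕ} (h : Ord f q) : f ≠ 0 := by
  intro h0
  have := h.order
  rw [h0, order_zero] at this
  exact ENat.coe_ne_top q this.symm

variable (σ : PowerSeries k ≃ₐ[k] PowerSeries k) {m : ℕ} {c : PowerSeries k}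

lemma sigma_C (a : k) : σ (C a) = C a := by
  have := σ.commutes a
  simpa [PowerSeries.algebraMap_apply] using this

/-- `σ u - u` is divisible by `X^(m+1)`. -/
lemma dvd_sub (hσX : σ X = X + X ^ (m + 1) * c) (u : PowerSeries k) :
    X ^ (m + 1) ∣ σ u - u := by
  suffices ∀ n, n ≤ m + 1 → ∀ u : PowerSeries k, X ^ n ∣ σ u - u from this _ le_rfl u
  intro n
  induction n with
  | zero => intro _ u; simp
  | succ n ih =>
    intro hn u
    obtain ⟨v, hv⟩ : X ∣ u - C (constantCoeff u) := X_dvd_iff.2 (by simp)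
    have hu : u = C (constantCoeff u) + X * v := by rw [← hv]; ring
    have h1 : σ u = C (constantCoeff u) + σ X * σ v := by
      conv_lhs => rw [hu]
      rw [map_add, map_mul, sigma_C]
    have h2 : σ u - u = X ^ (m + 1) * (c * σ v) + X * (σ v - v) := by
      rw [h1, hσX]; nth_rewrite 2 [hu]; ring
    rw [h2]
    refine dvd_add (Dvd.dvd.mul_right (pow_dvd_pow _ hn) _) ?_
    rw [pow_succ']
    exact mul_dvd_mul_left _ (ih (by omega) v)

/-- The key computation: `(σ - 1)` raises exact order `q` by `m` when `q ≠ 0` in `k`. -/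
lemma ord_sub (hσX : σ X = X + X ^ (m + 1) * c) (hc : constantCoeff c ≠ 0) (hm : m ≠ 0)
    {f : PowerSeries k} {q : ℕ} (h : Ord f q) (hq : (q : k) ≠ 0) : Ord (σ f - f) (q + m) := by
  obtain ⟨u, hu, rfl⟩ := h
  obtain ⟨r, hr⟩ := dvd_sub σ hσX u
  let t : PowerSeries k := X ^ m * c
  have ht : constantCoeff t = 0 := by simp [t, hm]
  have hX : σ X = X * (1 + t) := by rw [hσX]; simp only [t]; ring
  have hsum : constantCoeff (∑ i ∈ range q, (1 + t) ^ i) = (q : k) := by
    rw [map_sum]; simp [ht]
  refine ⟨c * (∑ i ∈ range q, (1 + t) ^ i) * σ u + X * r, ?_, ?_⟩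
  · have hσu : constantCoeff (σ u) = constantCoeff u := by
      have : constantCoeff (σ u - u) = 0 := by rw [hr]; simp
      rwa [map_sub, sub_eq_zero] at this
    simp only [map_add, map_mul, hsum, hσu, constantCoeff_X, zero_mul, add_zero]
    exact mul_ne_zero (mul_ne_zero hc hq) hu
  · have hg : (1 + t) ^ q - 1 = t * ∑ i ∈ range q, (1 + t) ^ i := by
      rw [← geom_sum_mul (1 + t) q]; ring
    rw [map_mul, map_pow, hX, mul_pow]
    calc X ^ q * (1 + t) ^ q * σ u - X ^ q * u
        = X ^ q * (((1 + t) ^ q - 1) * σ u + (σ u - u)) := by ring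
      _ = X ^ q * (X ^ m * c * (∑ i ∈ range q, (1 + t) ^ i) * σ u + X ^ (m + 1) * r) := by
          rw [hg, hr]
      _ = _ := by ring

variable {p : ℕ} [Fact p.Prime] [CharP k p]

lemma sigma_iterate (hσp : σ ^ p = 1) (x : PowerSeries k) : σ^[p] x = x := by
  have h : ∀ n : ℕ, (σ ^ n) x = σ^[n] x := by
    intro n
    induction n with
    | zero => rfl
    | succ n ih => rw [pow_succ', AlgEquiv.mul_apply, ih, Function.iterate_succ_apply']
  rw [← h, hσp]; rfl

omit [Fact p.Prime] [CharP k p] in
lemma delta_iter_eq (n : ℕ) (x : PowerSeries k) :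
    ((σ.toLinearMap - 1 : Module.End k (PowerSeries k)) ^ n) x = (fun y => σ y - y)^[n] x := by
  induction n with
  | zero => rfl
  | succ n ih => rw [pow_succ', Module.End.mul_apply, ih, Function.iterate_succ_apply']; rfl

lemma delta_p_eq_zero (hσp : σ ^ p = 1) (x : PowerSeries k) :
    (fun y => σ y - y)^[p] x = 0 := by
  rw [← delta_iter_eq]
  have hp : Nontrivial (PowerSeries k) := inferInstance
  have : CharP (Module.End k (PowerSeries k)) p :=
    charP_of_injective_algebraMap (R := k) (A := Module.End k (PowerSeries k))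
      (fun a b hab => by
        have := LinearMap.congr_fun hab (1 : PowerSeries k)
        simp only [Module.algebraMap_end_apply] at this
        exact smul_left_injective k one_ne_zero this) p
  rw [sub_pow_char_of_commute p (Commute.one_right _), one_pow]
  have h2 : (σ.toLinearMap : Module.End k (PowerSeries k)) ^ p = 1 := by
    ext y : 1
    rw [Module.End.pow_apply]
    exact sigma_iterate σ hσp y
  rw [h2]; simp

lemma exists_sigma_X {m : ℕ} (hσp : σ ^ p = 1)
    (hm : (σ X - X).order = ((m + 1 : ℕ) : ℕ∞)) :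
    m ≠ 0 ∧ ∃ c, constantCoeff c ≠ 0 ∧ σ X = X + X ^ (m + 1) * c := by
  obtain ⟨c, hc, hX⟩ := ord_of_order hm
  refine ⟨?_, c, hc, by rw [← hX]; ring⟩
  rintro rfl
  -- `σ X = X * (1 + c)`, so `(1 + c₀)^p = 1`
  have hX' : σ X = X * (1 + c) := by rw [zero_add, pow_one] at hX; linear_combination hX
  have h : ∀ n : ℕ, ∃ w, constantCoeff w = (1 + constantCoeff c) ^ n ∧ σ^[n] X = X * w := by
    intro n
    induction n with
    | zero => exact ⟨1, by simp, by simp⟩
    | succ n ih =>
      obtain ⟨w, hw, hiter⟩ := ih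
      refine ⟨(1 + c) * σ w, ?_, ?_⟩
      · have hσw : constantCoeff (σ w) = constantCoeff w := by
          obtain ⟨v, hv⟩ : X ∣ w - C (constantCoeff w) := X_dvd_iff.2 (by simp)
          have : σ w = C (constantCoeff w) + σ X * σ v := by
            conv_lhs => rw [show w = C (constantCoeff w) + X * v by rw [← hv]; ring]
            rw [map_add, map_mul, sigma_C]
          rw [this, hX']; simp
        simp [hσw, hw, pow_succ']
      · rw [Function.iterate_succ_apply', hiter, map_mul, hX', mul_assoc]
  obtain ⟨w, hw, hiter⟩ := h p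
  rw [sigma_iterate σ hσp] at hiter
  have hw1 : w = 1 := by
    have := mul_left_cancel₀ (X_ne_zero (R := k)) (show X * w = X * 1 by rw [← hiter, mul_one])
    exact this
  rw [hw1, map_one, add_pow_char, one_pow, left_eq_add] at hw
  exact hc (pow_eq_zero_iff (Fact.out : p.Prime).ne_zero |>.1 hw)

theorem main (hσp : σ ^ p = 1) (m : ℕ)
    (hm : (σ X - X).order = ((m + 1 : ℕ) : ℕ∞)) :
    p ∣ m + 1 ↔ ∃ s a : PowerSeries k, s.order = 1 ∧ σ a = a ∧ σ s = s + a := by
  obtain ⟨hm0, c, hc, hσX⟩ := exists_sigma_X σ hσp hm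
  have hp : p.Prime := Fact.out
  constructor
  · rintro ⟨j, hj⟩
    have hcast : ∀ n : ℕ, n < p → n ≠ 0 → (n : k) ≠ 0 := fun n hn hn0 h => by
      rw [CharP.cast_eq_zero_iff k p] at h
      exact hn0 (Nat.eq_zero_of_dvd_of_lt h hn)
    have hmk : (m : k) = -1 := by
      have : ((m + 1 : ℕ) : k) = 0 := by rw [hj]; simp
      push_cast at this; linear_combination this
    have hstep : ∀ i, i ≤ p - 1 → Ord ((fun y => σ y - y)^[i] (X ^ (p - 1))) (p - 1 + i * m) := by
      intro i
      induction i with
      | zero => intro _; exact ⟨1, by simp, by simp⟩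
      | succ i ih =>
        intro hi
        rw [Function.iterate_succ_apply']
        have := ord_sub σ hσX hc hm0 (ih (by omega)) (by
          push_cast [hmk]
          have : ((p - 1 - i : ℕ) : k) ≠ 0 := hcast _ (by omega) (by omega)
          rw [Nat.cast_sub (by omega)] at this
          simpa [sub_eq_add_neg] using this)
        rw [Nat.succ_mul, ← add_assoc]
        exact this
    let y := (fun y => σ y - y)^[p - 2] (X ^ (p - 1) : PowerSeries k)
    let z := σ y - y
    have h2 : 2 ≤ p := hp.two_le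
    have hy : Ord y ((p - 2) * (m + 1) + 1) := by
      have := hstep (p - 2) (by omega)
      convert this using 1
      rw [Nat.mul_succ]; omega
    have hz : σ z = z := by
      have hzz : z = (fun y => σ y - y)^[p - 1] (X ^ (p - 1) : PowerSeries k) := by
        rw [show (fun y => σ y - y)^[p - 1] = (fun y => σ y - y)^[(p - 2) + 1] from
          congrArg _ (by omega), Function.iterate_succ_apply']
      have := delta_p_eq_zero σ hσp (X ^ (p - 1) : PowerSeries k)
      rw [show (fun y => σ y - y)^[p] = (fun y => σ y - y)^[(p - 1) + 1] from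
          congrArg _ (by omega), Function.iterate_succ_apply', ← hzz] at this
      exact sub_eq_zero.1 this
    -- norm of `X`
    let N : PowerSeries k := ∏ i ∈ range p, σ^[i] X
    have hNfix : σ N = N := by
      rw [map_prod]
      simp only [← Function.iterate_succ_apply' σ]
      have h1 := prod_range_succ' (fun i => σ^[i] (X : PowerSeries k)) p
      have h2 := prod_range_succ (fun i => σ^[i] (X : PowerSeries k)) p
      rw [h2] at h1
      rw [sigma_iterate σ hσp] at h1
      exact (mul_right_cancel₀ X_ne_zero h1).symm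
    have hN : Ord N p := by
      have hone : ∀ i, Ord (σ^[i] (X : PowerSeries k)) 1 := by
        intro i
        induction i with
        | zero => exact ⟨1, by simp, by simp⟩
        | succ i ih =>
          obtain ⟨u, hu, hiu⟩ := ih
          obtain ⟨r, hr⟩ := dvd_sub σ hσX u
          rw [Function.iterate_succ_apply', hiu, pow_one, map_mul, hσX]
          refine ⟨(1 + X ^ m * c) * σ u, ?_, by ring⟩
          have : constantCoeff (σ u) = constantCoeff u := by
            have : constantCoeff (σ u - u) = 0 := by rw [hr]; simp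
            rwa [map_sub, sub_eq_zero] at this
          simp [this, hu, hm0]
      have : ∀ n, Ord (∏ i ∈ range n, σ^[i] (X : PowerSeries k)) n := by
        intro n
        induction n with
        | zero => exact ⟨1, by simp, by simp⟩
        | succ n ih => rw [prod_range_succ]; exact ih.mul (hone n)
      exact this p
    let D := N ^ ((p - 2) * j)
    have hD : Ord D ((p - 2) * (m + 1)) := by
      have := hN.pow ((p - 2) * j)
      rwa [mul_assoc, mul_comm j p, ← hj] at this
    have hDfix : σ D = D := by simp [D, hNfix]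
    obtain ⟨e, he, hDe⟩ := hD
    obtain ⟨f, hf, hyf⟩ := hy
    have hsD : y = D * (X * f * e⁻¹) := by
      calc y = X ^ ((p - 2) * (m + 1)) * X * f * (e * e⁻¹) := by
            rw [PowerSeries.mul_inv_cancel _ he, mul_one, hyf, pow_succ]
        _ = _ := by rw [hDe]; ring
    refine ⟨X * f * e⁻¹, σ (X * f * e⁻¹) - X * f * e⁻¹, ?_, ?_, by ring⟩
    · exact_mod_cast Ord.order (q := 1)
        ⟨f * e⁻¹, by simp [hf, he], by ring⟩
    · have hD0 : D ≠ 0 := Ord.ne_zero ⟨e, he, hDe⟩
      have hza : z = D * (σ (X * f * e⁻¹) - X * f * e⁻¹) := by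
        show σ y - y = _
        rw [hsD, map_mul, hDfix]; ring
      apply mul_left_cancel₀ hD0
      nth_rewrite 1 [← hDfix]
      rw [← map_mul, ← hza, hz]
  · rintro ⟨s, a, hs, ha, hsa⟩
    have hs' : Ord s 1 := ord_of_order (by exact_mod_cast hs)
    have h1 : Ord a (1 + m) := by
      have := ord_sub σ hσX hc hm0 hs' (by simp)
      rwa [hsa, add_sub_cancel_left] at this
    by_contra hndvd
    have h2 := ord_sub σ hσX hc hm0 h1 (by
      rw [Ne, CharP.cast_eq_zero_iff k p, add_comm]; exact hndvd)
    exact h2.ne_zero (by rw [ha, sub_self])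

end Groth.Agent.RamBreak
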